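import Cfsg.Agent.H42.Psl3.Orders
import Cfsg.Agent.S2579
import Cfsg.Agent.S0157
import Cfsg.Agent.PermutationGroups.MultFree
import Cfsg.Agent.H672.Over
import Cfsg.Agent.Characters.Linear
import Cfsg.Agent.SporadicA.M11CharSimple

/-!
# The subgroup `Q = {1 + a e₁₃ + b e₂₃}` of `PSL₃(q)` (helper42)
-/

set_option autoImplicit false
set_option linter.style.haveILetI false

namespace Cfsg.Agent.H42.Psl3

open Matrix Cfsg Cfsg.Agent.Characters.Core Cfsg.Agent.H672

variable {F : Type*} [Field F]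

/-- the matrices `1 + a e₁₃ + b e₂₃` -/
def tau (F : Type*) [Field F] : Multiplicative (F × F) →* SpecialLinearGroup (Fin 3) F where
  toFun z := ⟨!![1, 0, (Multiplicative.toAdd z).1; 0, 1, (Multiplicative.toAdd z).2; 0, 0, 1], by
    rw [Matrix.det_fin_three]; simp⟩
  map_one' := by
    apply Subtype.ext
    ext i j
    fin_cases i <;> fin_cases j <;> simp
  map_mul' z w := by
    apply Subtype.ext
    change (!![1, 0, (Multiplicative.toAdd (z * w)).1; 0, 1, (Multiplicative.toAdd (z * w)).2; 0, 0, 1] :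
      Matrix (Fin 3) (Fin 3) F) = !![1, 0, (Multiplicative.toAdd z).1; 0, 1, (Multiplicative.toAdd z).2; 0, 0, 1] *
        !![1, 0, (Multiplicative.toAdd w).1; 0, 1, (Multiplicative.toAdd w).2; 0, 0, 1]
    ext i j
    fin_cases i <;> fin_cases j <;> simp [Matrix.mul_apply, Fin.sum_univ_three, toAdd_mul, add_comm]

theorem tau_coe (z : Multiplicative (F × F)) : ((tau F z : SpecialLinearGroup (Fin 3) F) : Matrix (Fin 3) (Fin 3) F) =
    !![1, 0, (Multiplicative.toAdd z).1; 0, 1, (Multiplicative.toAdd z).2; 0, 0, 1] := rfl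

theorem tau_transvection {z : Multiplicative (F × F)} (hz : z ≠ 1) :
    IsTransvection ((tau F z : SpecialLinearGroup (Fin 3) F) : Matrix (Fin 3) (Fin 3) F) := by
  rw [tau_coe]
  set a := (Multiplicative.toAdd z).1
  set b := (Multiplicative.toAdd z).2
  have hab : ¬ (a = 0 ∧ b = 0) := by
    rintro ⟨h1, h2⟩
    exact hz (Multiplicative.toAdd.injective (Prod.ext h1 h2))
  have e : (!![1, 0, a; 0, 1, b; 0, 0, 1] - 1 : Matrix (Fin 3) (Fin 3) F) = Matrix.vecMulVec ![a, b, 0] ![0, 0, 1] := by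
    ext i j
    fin_cases i <;> fin_cases j <;> simp [Matrix.vecMulVec_apply]
  constructor
  · rw [e]
    apply le_antisymm (Matrix.rank_vecMulVec_le _ _)
    rw [Nat.one_le_iff_ne_zero]
    intro h0
    rw [Matrix.rank, Submodule.finrank_eq_zero, LinearMap.range_eq_bot] at h0
    apply hab
    have h1 := LinearMap.congr_fun h0 ![0, 0, 1]
    have h2 := congrFun h1 0
    have h3 := congrFun h1 1
    simp [Matrix.mulVec, dotProduct, Fin.sum_univ_three] at h2 h3
    exact ⟨h2, h3⟩
  · rw [e]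
    ext i j
    fin_cases i <;> fin_cases j <;> simp [Matrix.mul_apply, Fin.sum_univ_three]

/-- the image in `PSL₃(q)` -/
def tq (F : Type*) [Field F] : Multiplicative (F × F) →* ProjectiveSpecialLinearGroup (Fin 3) F := (pr F).comp (tau F)

theorem tq_injective : Function.Injective (tq F) := by
  rw [← MonoidHom.ker_eq_bot_iff, eq_bot_iff]
  intro z hz
  rw [Subgroup.mem_bot]
  have h1 : pr F (tau F z) = pr F 1 := by
    rw [map_one]
    exact hz
  obtain ⟨w, hw⟩ := pr_eq_iff h1
  rw [tau_coe, Matrix.SpecialLinearGroup.coe_one] at hw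
  have h02 := congrFun (congrFun hw 0) 2
  have h12 := congrFun (congrFun hw 1) 2
  simp at h02 h12
  exact Multiplicative.toAdd.injective (Prod.ext h02 h12)

theorem tq_isConj [Finite F] {z w : Multiplicative (F × F)} (hz : z ≠ 1) (hw : w ≠ 1) :
    IsConj (tq F z) (tq F w) :=
  MonoidHom.map_isConj (pr F)
    (S2579.result (F := F) (n := 3) le_rfl (tau F z) (tau F w) (tau_transvection hz) (tau_transvection hw))

/-- **Minimal degrees** from an abelian subgroup with all its non-trivial elements conjugate. -/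
theorem min_degree {S : Type*} [Group S] [Finite S] {A : Type*} [CommGroup A] [Finite A] (f : A →* S)
    (hconj : ∀ a b, a ≠ 1 → b ≠ 1 → IsConj (f a) (f b)) {a₀ : A} (ha₀ : a₀ ≠ 1)
    {χ : S → ℂ} (hχ : IsIrrCharacter S χ) (hker : χ (f a₀) ≠ χ 1) : Nat.card A - 1 ≤ charDegree χ := by
  classical
  letI := Fintype.ofFinite A
  obtain ⟨μ, hμ⟩ := CommGroup.exists_apply_ne_one_of_hasEnoughRootsOfUnity A ℂ ha₀
  have hφ : IsCharacter A (χ ∘ f) := isCharacter_comp f (isIrr_isCharacter hχ)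
  obtain ⟨t, ht⟩ := classInner_isNat hφ (isCharacter_one (G := A))
  obtain ⟨b, hb⟩ := classInner_isNat hφ (Characters.Linear.isCharacter_hom μ)
  have hval : ∀ a : A, a ≠ 1 → χ (f a) = χ (f a₀) := by
    intro a ha
    obtain ⟨c, hc⟩ := isConj_iff.1 (hconj a a₀ ha ha₀)
    rw [← hc]
    exact (isIrr_isClassFunction hχ (f a) c).symm
  have h0 : (Nat.card A : ℂ) ≠ 0 := by exact_mod_cast Nat.card_pos.ne'
  have hμsum : ∑ a : A, (starRingEnd ℂ) (μ a : ℂ) = 0 := by
    have h1 : classInner (1 : A → ℂ) (fun a => (μ a : ℂ)) = 0 := by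
      refine classInner_irr_ne isIrr_one (Characters.Linear.isIrrCharacter_hom μ) ?_
      intro h
      have := congrFun h a₀
      apply hμ
      apply Units.ext
      rw [Units.val_one]
      exact this.symm
    change (Nat.card A : ℂ)⁻¹ * ∑ a : A, (1 : ℂ) * (starRingEnd ℂ) (μ a : ℂ) = 0 at h1
    rcases mul_eq_zero.1 h1 with h | h
    · exact absurd h (inv_ne_zero h0)
    · simpa using h
  have e1 : (Nat.card A : ℂ) * t = χ 1 + ((Nat.card A : ℂ) - 1) * χ (f a₀) := by
    rw [← ht]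
    change (Nat.card A : ℂ) * ((Nat.card A : ℂ)⁻¹ * ∑ a : A, χ (f a) * (starRingEnd ℂ) (1 : ℂ)) = _
    rw [mul_inv_cancel_left₀ h0, ← Finset.add_sum_erase _ _ (Finset.mem_univ (1 : A))]
    rw [Finset.sum_congr rfl (g := fun _ => χ (f a₀)) fun a ha => by
      rw [map_one, mul_one, hval a (Finset.ne_of_mem_erase ha)]]
    rw [Finset.sum_const, Finset.card_erase_of_mem (Finset.mem_univ _), Finset.card_univ, nsmul_eq_mul,
      ← Nat.card_eq_fintype_card, Nat.cast_sub Nat.card_pos, map_one, map_one, mul_one, Nat.cast_one]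
  have e2 : (Nat.card A : ℂ) * b = χ 1 - χ (f a₀) := by
    rw [← hb]
    change (Nat.card A : ℂ) * ((Nat.card A : ℂ)⁻¹ * ∑ a : A, χ (f a) * (starRingEnd ℂ) (μ a : ℂ)) = _
    rw [← Finset.add_sum_erase _ _ (Finset.mem_univ (1 : A))] at hμsum
    rw [mul_inv_cancel_left₀ h0, ← Finset.add_sum_erase _ _ (Finset.mem_univ (1 : A))]
    rw [Finset.sum_congr rfl (g := fun a => χ (f a₀) * (starRingEnd ℂ) (μ a : ℂ)) fun a ha => by
      rw [hval a (Finset.ne_of_mem_erase ha)]]
    rw [← Finset.mul_sum]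
    have h3 : (starRingEnd ℂ) ((μ 1 : ℂˣ) : ℂ) = 1 := by simp
    rw [h3] at hμsum ⊢
    rw [map_one]
    linear_combination χ (f a₀) * hμsum
  have hbne : b ≠ 0 := by
    rintro rfl
    apply hker
    rw [Nat.cast_zero, mul_zero] at e2
    linear_combination e2
  have e3 : (charDegree χ : ℂ) = t + ((Nat.card A : ℂ) - 1) * b := by
    rw [coe_charDegree hχ]
    apply mul_left_cancel₀ h0
    linear_combination -e1 - ((Nat.card A : ℂ) - 1) * e2
  have h1 : 1 ≤ Nat.card A := Nat.card_pos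
  have e4 : charDegree χ = t + (Nat.card A - 1) * b := by
    rw [← Nat.cast_one, ← Nat.cast_sub h1] at e3
    exact_mod_cast e3
  rw [e4]
  calc Nat.card A - 1 ≤ (Nat.card A - 1) * b := Nat.le_mul_of_pos_right _ (Nat.pos_of_ne_zero hbne)
    _ ≤ _ := Nat.le_add_left _ _

omit [Field F] in
theorem card_mul_prod [Fintype F] : Nat.card (Multiplicative (F × F)) = Fintype.card F ^ 2 := by
  rw [Nat.card_congr Multiplicative.toAdd, Nat.card_prod, Nat.card_eq_fintype_card, sq]

/-- **Minimal degrees of `PSL₃(q)`.** -/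
theorem psl_min_degree [Fintype F] {χ : ProjectiveSpecialLinearGroup (Fin 3) F → ℂ}
    (hχ : IsIrrCharacter (ProjectiveSpecialLinearGroup (Fin 3) F) χ) (h1 : χ ≠ 1) :
    Fintype.card F ^ 2 - 1 ≤ charDegree χ := by
  have := psl_finite (F := F)
  have := S0249.result (F := F) 3 le_rfl
  have ha : (Multiplicative.ofAdd ((1, 0) : F × F)) ≠ 1 := by
    intro h
    have := congrArg (fun z => (Multiplicative.toAdd z).1) h
    exact one_ne_zero this
  have h := min_degree (tq F) (fun a b ha hb => tq_isConj ha hb) ha hχ ?_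
  · rwa [card_mul_prod] at h
  · intro h
    exact h1 (SporadicA.M11CharSimple.eq_one_of_apply_eq hχ
      (fun h => ha ((map_eq_one_iff _ tq_injective).1 h)) h)

/-- transitive actions of small degree are 2-transitive -/
theorem two_trans {S : Type*} [Group S] [Fintype S] {Ω : Type*} [Fintype Ω] [MulAction S Ω]
    [MulAction.IsPretransitive S Ω] {k : ℕ} (h2 : 2 ≤ Nat.card Ω) (hlt : Nat.card Ω < 2 * k + 1)
    (hmin : ∀ χ : S → ℂ, IsIrrCharacter S χ → χ ≠ 1 → k ≤ charDegree χ) :
    MulAction.IsMultiplyPretransitive S Ω 2 ∧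
      ∃ χ : S → ℂ, IsIrrCharacter S χ ∧ charDegree χ + 1 = Nat.card Ω := by
  classical
  have hne : Nonempty Ω := by
    rw [← Finite.card_pos_iff]
    omega
  obtain ⟨a⟩ := hne
  obtain ⟨m, -, hm1, hmsq, hmsum⟩ := PermutationGroups.MultFree.exists_decomp (G := S) a
  set i1 : IrrCharacter S := ⟨_, PermutationGroups.MultFree.isIrr_one⟩ with hi1
  have hi1s : i1 ∈ m.support := by
    rw [Finsupp.mem_support_iff, hm1]
    exact one_ne_zero
  have hnat : Nat.card Ω = ∑ ψ ∈ m.support, m ψ * charDegree (ψ : S → ℂ) := by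
    have h3 : (Nat.card Ω : ℂ) = ((∑ ψ ∈ m.support, m ψ * charDegree (ψ : S → ℂ) : ℕ) : ℂ) := by
      rw [hmsum, Nat.cast_sum]
      refine Finset.sum_congr rfl fun ψ _ => ?_
      rw [Nat.cast_mul, coe_charDegree ψ.2]
    exact_mod_cast h3
  have hd1 : charDegree (i1 : S → ℂ) = 1 := charDegree_of_eq (by simp [hi1])
  rw [← Finset.add_sum_erase _ _ hi1s, hm1, hd1, mul_one] at hnat
  rw [← Finset.add_sum_erase _ _ hi1s, hm1, one_pow] at hmsq
  have hterm : ∀ ψ ∈ m.support.erase i1, k ≤ m ψ * charDegree (ψ : S → ℂ) ∧ k ≤ charDegree (ψ : S → ℂ) ∧ 1 ≤ m ψ := by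
    intro ψ hψ
    have h3 := Finset.mem_erase.1 hψ
    have h4 : m ψ ≠ 0 := Finsupp.mem_support_iff.1 h3.2
    have h5 : k ≤ charDegree (ψ : S → ℂ) := hmin ψ ψ.2 fun h => h3.1 (Subtype.ext h)
    exact ⟨h5.trans (Nat.le_mul_of_pos_left _ (Nat.pos_of_ne_zero h4)), h5, Nat.pos_of_ne_zero h4⟩
  have hcard : (m.support.erase i1).card = 1 := by
    have h3 : (m.support.erase i1).card * k ≤ ∑ ψ ∈ m.support.erase i1, m ψ * charDegree (ψ : S → ℂ) := by
      rw [← smul_eq_mul]
      exact Finset.card_nsmul_le_sum _ _ _ fun ψ hψ => (hterm ψ hψ).1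
    have h4 : (m.support.erase i1).card ≠ 0 := by
      intro h0
      rw [Finset.card_eq_zero] at h0
      rw [h0, Finset.sum_empty] at hnat
      omega
    by_contra h5
    have h6 : 2 * k ≤ (m.support.erase i1).card * k := Nat.mul_le_mul_right _ (by omega)
    omega
  obtain ⟨ψ, hψ⟩ := Finset.card_eq_one.1 hcard
  obtain ⟨h5, h6, h7⟩ := hterm ψ (by rw [hψ]; exact Finset.mem_singleton_self ψ)
  rw [hψ, Finset.sum_singleton] at hnat hmsq
  have hm : m ψ = 1 := by
    by_contra h8
    have h9 : 2 * charDegree (ψ : S → ℂ) ≤ m ψ * charDegree (ψ : S → ℂ) := Nat.mul_le_mul_right _ (by omega)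
    omega
  rw [hm] at hmsq hnat
  refine ⟨?_, ψ, ψ.2, by omega⟩
  rw [S0157.two_pretransitive_iff_card_orbits S Ω h2]
  have h8 := S0669.result (G := S) a
  rw [← hmsq] at h8
  exact h8

theorem card_fixedBy_conj {S : Type*} [Group S] {Ω : Type*} [MulAction S Ω] {g h : S} (hgh : IsConj g h) :
    Nat.card (MulAction.fixedBy Ω g) = Nat.card (MulAction.fixedBy Ω h) := by
  obtain ⟨c, hc⟩ := isConj_iff.1 hgh
  refine Nat.card_congr ⟨fun x => ⟨c • x, ?_⟩, fun x => ⟨c⁻¹ • x, ?_⟩, fun x => ?_, fun x => ?_⟩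
  · rw [MulAction.mem_fixedBy, ← hc, smul_smul, inv_mul_cancel_right, mul_smul, x.2]
  · have h1 : g = c⁻¹ * h * c := by rw [← hc]; group
    rw [MulAction.mem_fixedBy, h1, smul_smul, mul_inv_cancel_right, mul_smul, x.2]
  · exact Subtype.ext (by simp)
  · exact Subtype.ext (by simp)

/-- Burnside's lemma for an abelian group with all its non-trivial elements conjugate in a larger group. -/
theorem fix_sum {S : Type*} [Group S] {A : Type*} [CommGroup A] [Finite A] (f : A →* S)
    (hconj : ∀ a b, a ≠ 1 → b ≠ 1 → IsConj (f a) (f b)) {a₀ : A} (ha₀ : a₀ ≠ 1)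
    (Ω : Type*) [Finite Ω] [MulAction S Ω] :
    ∃ r : ℕ, Nat.card Ω + (Nat.card A - 1) * Nat.card (MulAction.fixedBy Ω (f a₀)) = r * Nat.card A := by
  classical
  letI := Fintype.ofFinite A
  letI := Fintype.ofFinite Ω
  letI : MulAction A Ω := MulAction.compHom Ω f
  have h := MulAction.sum_card_fixedBy_eq_card_orbits_mul_card_group A Ω
  refine ⟨_, Eq.trans ?_ (h.trans (by rw [← Nat.card_eq_fintype_card (α := A)]))⟩
  rw [← Finset.add_sum_erase _ _ (Finset.mem_univ (1 : A))]
  congr 1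
  · rw [← Nat.card_eq_fintype_card]
    refine Nat.card_congr (Equiv.subtypeUnivEquiv fun x => one_smul A x).symm
  · rw [Finset.sum_congr rfl (g := fun _ => Nat.card (MulAction.fixedBy Ω (f a₀))) fun a ha => ?_]
    · rw [Finset.sum_const, Finset.card_erase_of_mem (Finset.mem_univ _), Finset.card_univ, smul_eq_mul,
        Nat.card_eq_fintype_card]
    · rw [← Nat.card_eq_fintype_card]
      exact card_fixedBy_conj (S := S) (Ω := Ω) (hconj a a₀ (Finset.ne_of_mem_erase ha) ha₀)

/-- the number of fixed points of the elements of `Q` on a transitive set with `q² + q + 1` points -/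
theorem card_fixedBy_tq [Fintype F] (Ω : Type*) [Finite Ω] [MulAction (ProjectiveSpecialLinearGroup (Fin 3) F) Ω]
    [MulAction.IsPretransitive (ProjectiveSpecialLinearGroup (Fin 3) F) Ω]
    (hΩ : Nat.card Ω = Fintype.card F ^ 2 + Fintype.card F + 1) {z : Multiplicative (F × F)} (hz : z ≠ 1) :
    Nat.card (MulAction.fixedBy Ω (tq F z)) = Fintype.card F + 1 := by
  classical
  have hs := S0249.result (F := F) 3 le_rfl
  obtain ⟨r, hr⟩ := fix_sum (tq F) (fun a b ha hb => tq_isConj ha hb) hz Ω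
  rw [card_mul_prod, hΩ] at hr
  have hle : Nat.card (MulAction.fixedBy Ω (tq F z)) ≤ Nat.card Ω :=
    Nat.card_le_card_of_injective _ Subtype.val_injective
  have hne : Nat.card (MulAction.fixedBy Ω (tq F z)) ≠ Nat.card Ω := by
    intro h
    have hall : ∀ x : Ω, tq F z • x = x := by
      have h1 : Function.Surjective (Subtype.val : MulAction.fixedBy Ω (tq F z) → Ω) :=
        ((Nat.bijective_iff_injective_and_card _).2 ⟨Subtype.val_injective, h⟩).2
      intro x
      obtain ⟨y, rfl⟩ := h1 x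
      exact y.2
    let ρ := MulAction.toPermHom (ProjectiveSpecialLinearGroup (Fin 3) F) Ω
    have hk : tq F z ∈ ρ.ker := by
      rw [MonoidHom.mem_ker]
      exact Equiv.ext hall
    have htop : ρ.ker = ⊤ := by
      rcases (inferInstance : ρ.ker.Normal).eq_bot_or_eq_top with h1 | h1
      · rw [h1, Subgroup.mem_bot, map_eq_one_iff _ tq_injective] at hk
        exact absurd hk hz
      · exact h1
    have h2 : 1 < Nat.card Ω := by
      have : 2 ≤ Fintype.card F := Fintype.one_lt_card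
      omega
    rw [Finite.one_lt_card_iff_nontrivial] at h2
    obtain ⟨x, y, hxy⟩ := h2.exists_pair_ne
    obtain ⟨g, hg⟩ := MulAction.exists_smul_eq (ProjectiveSpecialLinearGroup (Fin 3) F) x y
    apply hxy
    rw [← hg]
    have h3 : g ∈ ρ.ker := by rw [htop]; trivial
    rw [MonoidHom.mem_ker] at h3
    exact (congrArg (fun e : Equiv.Perm Ω => e x) h3).symm
  rw [hΩ] at hle hne
  have hq : 2 ≤ Fintype.card F := Fintype.one_lt_card
  generalize Nat.card (MulAction.fixedBy Ω (tq F z)) = c at *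
  generalize Fintype.card F = q at *
  clear hΩ
  -- `q² + q + 1 + (q² - 1) c = r q²`
  have hq2 : 1 ≤ q ^ 2 := Nat.one_le_pow _ _ (by omega)
  have h4 : q ^ 2 + q + 1 + q ^ 2 * c = r * q ^ 2 + c := by
    have : (q ^ 2 - 1) * c + c = q ^ 2 * c := by
      rw [← Nat.succ_mul]
      congr 1
      omega
    omega
  have h5 : (q + 1) % q ^ 2 = c % q ^ 2 := by
    have h6 : (q ^ 2 + q + 1 + q ^ 2 * c) % q ^ 2 = (r * q ^ 2 + c) % q ^ 2 := by rw [h4]
    rw [Nat.add_mul_mod_self_left, add_assoc, Nat.add_mod_left, Nat.add_comm (r * q ^ 2), Nat.add_mul_mod_self_right] at h6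
    exact h6
  have h6 : c < q ^ 2 + q + 1 := by omega
  rcases Nat.lt_or_ge c (q ^ 2) with h7 | h7
  · rw [Nat.mod_eq_of_lt h7] at h5
    rw [← h5]
    rcases Nat.lt_or_ge (q + 1) (q ^ 2) with h8 | h8
    · exact Nat.mod_eq_of_lt h8
    · exfalso
      nlinarith
  · exfalso
    obtain ⟨j, rfl⟩ : ∃ j, c = q ^ 2 + j := ⟨c - q ^ 2, by omega⟩
    have h9 : j < q + 1 := by omega
    have h10 : q + 1 < q ^ 2 ∨ q = 1 ∨ q + 1 ≥ q ^ 2 := by omega
    rw [Nat.add_mod_left, Nat.mod_eq_of_lt (by nlinarith : j < q ^ 2), Nat.mod_eq_of_lt (by nlinarith : q + 1 < q ^ 2)] at h5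
    omega

end Cfsg.Agent.H42.Psl3
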