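import Cfsg.Agent.H42.Psl3.Act

/-!
# Actions of `PSL₃(q)` on abelian groups with orbits of length `1` and `q² + q + 1` only are trivial (helper42)
-/

set_option autoImplicit false
set_option linter.style.haveILetI false

namespace Cfsg.Agent.H42.Psl3

open Matrix Cfsg

/-- the differences of a 2-transitive orbit, together with the identity, are closed under multiplication -/
theorem closed_of_quot {W : Type*} [CommGroup W] [DecidableEq W] {S : Type*} [Group S] [MulDistribMulAction S W]
    (L D : Finset W) (hL : ∀ (g : S), ∀ x ∈ L, g • x ∈ L) (hD : ∀ a ∈ D, ∀ b ∈ D, ∃ g : S, g • a = b)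
    (hquot : ∀ x ∈ L, ∀ y ∈ L, x ≠ y → y / x ∈ D) (hcard : D.card = L.card) (h3 : 3 ≤ L.card)
    (h1 : (1 : W) ∉ D) {a b : W} (ha : a ∈ D) (hb : b ∈ D) : a * b ∈ D ∨ a * b = 1 := by
  classical
  -- for a fixed element of `L` there is exactly one bad difference
  have hx : ∀ x ∈ L, (D.filter fun a => a * x ∉ L).card = 1 := by
    intro x hx
    have e1 : (D.filter fun a => a * x ∈ L) = (L.erase x).image (fun y => y / x) := by
      ext a
      rw [Finset.mem_filter, Finset.mem_image]
      constructor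
      · rintro ⟨h4, h5⟩
        refine ⟨a * x, Finset.mem_erase.2 ⟨?_, h5⟩, mul_div_cancel_right a x⟩
        intro h6
        apply h1
        rw [mul_eq_right] at h6
        rwa [← h6]
      · rintro ⟨y, hy, rfl⟩
        obtain ⟨h5, h6⟩ := Finset.mem_erase.1 hy
        exact ⟨hquot x hx y h6 (Ne.symm h5), by rwa [div_mul_cancel]⟩
    have e2 : (D.filter fun a => a * x ∈ L).card = L.card - 1 := by
      rw [e1, Finset.card_image_of_injective _ (fun y z h => div_left_injective h), Finset.card_erase_of_mem hx]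
    have e3 := Finset.card_filter_add_card_filter_not (s := D) (fun a => a * x ∈ L)
    omega
  have hinv : ∀ a ∈ D, ∀ b ∈ D, (L.filter fun x => a * x ∉ L).card = (L.filter fun x => b * x ∉ L).card := by
    have hle : ∀ a ∈ D, ∀ b ∈ D, (L.filter fun x => a * x ∉ L).card ≤ (L.filter fun x => b * x ∉ L).card := by
      intro a ha b hb
      obtain ⟨g, hg⟩ := hD a ha b hb
      refine Finset.card_le_card_of_injOn (fun x => g • x) ?_ (fun x _ y _ h => MulAction.injective g h)
      intro x hx
      rw [Finset.mem_coe, Finset.mem_filter] at hx ⊢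
      refine ⟨hL g x hx.1, fun h => hx.2 ?_⟩
      rw [← hg, ← smul_mul'] at h
      have := hL g⁻¹ _ h
      rwa [inv_smul_smul] at this
    exact fun a ha b hb => le_antisymm (hle a ha b hb) (hle b hb a ha)
  have hcount := Finset.sum_card_bipartiteAbove_eq_sum_card_bipartiteBelow (s := D) (t := L) (fun a x => a * x ∉ L)
  have hone : ∀ a ∈ D, (L.filter fun x => a * x ∉ L).card = 1 := by
    intro a ha
    have e1 : ∑ b ∈ L, (D.bipartiteBelow (fun a x => a * x ∉ L) b).card = L.card := by
      refine (Finset.sum_congr rfl (g := fun _ => 1) fun x hx' => hx x hx').trans ?_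
      rw [Finset.sum_const, smul_eq_mul, mul_one]
    have e2 : ∑ b ∈ D, (L.bipartiteAbove (fun a x => a * x ∉ L) b).card = D.card * (L.filter fun x => a * x ∉ L).card := by
      refine (Finset.sum_congr rfl (g := fun _ => (L.filter fun x => a * x ∉ L).card)
        fun b hb' => hinv b hb' a ha).trans ?_
      rw [Finset.sum_const, smul_eq_mul]
    rw [e1, e2, hcard] at hcount
    have : L.card * (L.filter fun x => a * x ∉ L).card = L.card * 1 := by rw [mul_one]; exact hcount
    exact Nat.eq_of_mul_eq_mul_left (by omega) this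
  -- a good element
  obtain ⟨x, hxL, hx1, hx2⟩ : ∃ x ∈ L, b * x ∈ L ∧ a * (b * x) ∈ L := by
    by_contra hcon
    push Not at hcon
    have h5 : L ⊆ (L.filter fun x => b * x ∉ L) ∪ (L.filter fun x => a * x ∉ L).image (fun y => b⁻¹ * y) := by
      intro x hx'
      rw [Finset.mem_union, Finset.mem_filter, Finset.mem_image]
      by_cases h6 : b * x ∈ L
      · right
        exact ⟨b * x, Finset.mem_filter.2 ⟨h6, hcon x hx' h6⟩, inv_mul_cancel_left b x⟩
      · left
        exact ⟨hx', h6⟩
    have h6 := Finset.card_le_card h5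
    have h7 := Finset.card_union_le (L.filter fun x => b * x ∉ L) ((L.filter fun x => a * x ∉ L).image (fun y => b⁻¹ * y))
    have h8 := Finset.card_image_le (s := L.filter fun x => a * x ∉ L) (f := fun y => b⁻¹ * y)
    have h9 := hone a ha
    have h10 := hone b hb
    omega
  by_cases h : x = a * (b * x)
  · right
    have : a * b * x = 1 * x := by rw [mul_assoc, ← h, one_mul]
    exact mul_right_cancel this
  · left
    have h5 := hquot x hxL _ hx2 h
    rwa [← mul_assoc, mul_div_cancel_right] at h5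

variable {F : Type*} [Field F] [Fintype F]

/-- **An action of `PSL₃(q)`, `q ≥ 3`, on a finite abelian group with orbits of length `1` and `q² + q + 1` only is
trivial.** -/
theorem trivial_of_orbits (hq : 3 ≤ Fintype.card F) {W : Type*} [CommGroup W] [Finite W]
    [MulDistribMulAction (ProjectiveSpecialLinearGroup (Fin 3) F) W]
    (horb : ∀ w : W, Nat.card (MulAction.orbit (ProjectiveSpecialLinearGroup (Fin 3) F) w) = 1 ∨
      Nat.card (MulAction.orbit (ProjectiveSpecialLinearGroup (Fin 3) F) w) = Fintype.card F ^ 2 + Fintype.card F + 1)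
    (s : ProjectiveSpecialLinearGroup (Fin 3) F) (w : W) : s • w = w := by
  classical
  have := psl_finite (F := F)
  letI := Fintype.ofFinite (ProjectiveSpecialLinearGroup (Fin 3) F)
  have fix_of_one : ∀ w : W, Nat.card (MulAction.orbit (ProjectiveSpecialLinearGroup (Fin 3) F) w) = 1 →
      ∀ s : ProjectiveSpecialLinearGroup (Fin 3) F, s • w = w := by
    intro w h s
    rw [Nat.card_eq_one_iff_unique] at h
    obtain ⟨h1, -⟩ := h
    exact congrArg Subtype.val (h1.elim ⟨s • w, MulAction.mem_orbit _ _⟩ ⟨w, MulAction.mem_orbit_self _⟩)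
  rcases horb w with h | h
  · exact fix_of_one w h s
  exfalso
  letI : Fintype W := Fintype.ofFinite W
  set n := Fintype.card F ^ 2 + Fintype.card F + 1 with hn
  have hn3 : 3 ≤ n := by nlinarith
  -- the orbit is 2-transitive
  have h2t := (two_trans (S := ProjectiveSpecialLinearGroup (Fin 3) F)
    (Ω := MulAction.orbit (ProjectiveSpecialLinearGroup (Fin 3) F) w) (k := Fintype.card F ^ 2 - 1)
    (by rw [h]; omega) (by
      rw [h, hn]
      have : Fintype.card F ^ 2 ≥ 3 * Fintype.card F := by nlinarith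
      omega) (fun χ hχ h1 => psl_min_degree hχ h1)).1
  rw [MulAction.is_two_pretransitive_iff] at h2t
  have h2 : ∀ a ∈ MulAction.orbit (ProjectiveSpecialLinearGroup (Fin 3) F) w,
      ∀ b ∈ MulAction.orbit (ProjectiveSpecialLinearGroup (Fin 3) F) w,
      ∀ c ∈ MulAction.orbit (ProjectiveSpecialLinearGroup (Fin 3) F) w,
      ∀ d ∈ MulAction.orbit (ProjectiveSpecialLinearGroup (Fin 3) F) w, a ≠ b → c ≠ d →
      ∃ g : ProjectiveSpecialLinearGroup (Fin 3) F, g • a = c ∧ g • b = d := by
    intro a ha b hb c hc d hd hab hcd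
    obtain ⟨g, hg1, hg2⟩ := @h2t ⟨a, ha⟩ ⟨b, hb⟩ ⟨c, hc⟩ ⟨d, hd⟩ (fun h => hab (congrArg Subtype.val h))
      (fun h => hcd (congrArg Subtype.val h))
    exact ⟨g, congrArg Subtype.val hg1, congrArg Subtype.val hg2⟩
  set L : Finset W := (MulAction.orbit (ProjectiveSpecialLinearGroup (Fin 3) F) w).toFinset with hL
  have hLm : ∀ x, x ∈ L ↔ x ∈ MulAction.orbit (ProjectiveSpecialLinearGroup (Fin 3) F) w := fun x => Set.mem_toFinset
  have hLc : L.card = n := by
    rw [hL, Set.toFinset_card, ← Nat.card_eq_fintype_card, h]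
  obtain ⟨x₁, hx₁, x₂, hx₂, h12⟩ : ∃ x₁ ∈ L, ∃ x₂ ∈ L, x₁ ≠ x₂ := by
    have : 1 < L.card := by omega
    rw [Finset.one_lt_card] at this
    obtain ⟨a, ha, b, hb, hab⟩ := this
    exact ⟨a, ha, b, hb, hab⟩
  set δ := x₂ / x₁ with hδ
  have hδ1 : δ ≠ 1 := by
    rw [hδ, Ne, div_eq_one]
    exact Ne.symm h12
  set D : Finset W := (MulAction.orbit (ProjectiveSpecialLinearGroup (Fin 3) F) δ).toFinset with hD
  have hDm : ∀ x, x ∈ D ↔ x ∈ MulAction.orbit (ProjectiveSpecialLinearGroup (Fin 3) F) δ := fun x => Set.mem_toFinset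
  have hquot : ∀ x ∈ L, ∀ y ∈ L, x ≠ y → y / x ∈ D := by
    intro x hx y hy hxy
    obtain ⟨g, hg1, hg2⟩ := h2 x₁ ((hLm _).1 hx₁) x₂ ((hLm _).1 hx₂) x ((hLm _).1 hx) y ((hLm _).1 hy) h12 hxy
    rw [hDm]
    refine ⟨g, ?_⟩
    change g • δ = _
    rw [hδ, smul_div', hg1, hg2]
  have hform : ∀ a ∈ D, ∃ x ∈ L, ∃ y ∈ L, x ≠ y ∧ a = y / x := by
    intro a ha
    obtain ⟨g, hg⟩ := (hDm a).1 ha
    refine ⟨g • x₁, ?_, g • x₂, ?_, fun h => h12 (MulAction.injective g h), ?_⟩
    · rw [hLm]
      obtain ⟨k, hk⟩ := (hLm _).1 hx₁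
      exact ⟨g * k, by rw [← hk]; exact mul_smul g k w⟩
    · rw [hLm]
      obtain ⟨k, hk⟩ := (hLm _).1 hx₂
      exact ⟨g * k, by rw [← hk]; exact mul_smul g k w⟩
    · rw [← hg, hδ]
      exact smul_div' g x₂ x₁
  have hDc : D.card = n := by
    rcases horb δ with h5 | h5
    · exfalso
      have h6 := fix_of_one δ h5
      obtain ⟨x₃, hx₃, h13, h23⟩ : ∃ x₃ ∈ L, x₃ ≠ x₁ ∧ x₃ ≠ x₂ := by
        by_contra hcon
        push Not at hcon
        have h7 : L ⊆ {x₁, x₂} := by
          intro x hx
          rw [Finset.mem_insert, Finset.mem_singleton]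
          by_cases h8 : x = x₁
          · exact Or.inl h8
          · exact Or.inr (hcon x hx h8)
        have := Finset.card_le_card h7
        have := Finset.card_le_two (a := x₁) (b := x₂)
        omega
      have h7 := hquot x₁ hx₁ x₃ hx₃ (Ne.symm h13)
      obtain ⟨g, hg⟩ := (hDm _).1 h7
      have h8 : g • δ = x₃ / x₁ := hg
      rw [h6 g, hδ, div_left_inj] at h8
      exact h23 h8.symm
    · rw [hD, Set.toFinset_card, ← Nat.card_eq_fintype_card, h5]
  have h1D : (1 : W) ∉ D := by
    intro h5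
    obtain ⟨g, hg⟩ := (hDm _).1 h5
    have h6 : g • δ = 1 := hg
    apply hδ1
    have := congrArg (fun x => g⁻¹ • x) h6
    simpa using this
  have hDtrans : ∀ a ∈ D, ∀ b ∈ D, ∃ g : ProjectiveSpecialLinearGroup (Fin 3) F, g • a = b := by
    intro a ha b hb
    obtain ⟨g, hg⟩ := (hDm _).1 ha
    obtain ⟨k, hk⟩ := (hDm _).1 hb
    have hg' : g • δ = a := hg
    have hk' : k • δ = b := hk
    exact ⟨k * g⁻¹, by rw [← hg', ← hk', mul_smul, inv_smul_smul]⟩
  have hLinv : ∀ (g : ProjectiveSpecialLinearGroup (Fin 3) F), ∀ x ∈ L, g • x ∈ L := by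
    intro g x hx
    rw [hLm] at hx ⊢
    obtain ⟨k, hk⟩ := hx
    exact ⟨g * k, by rw [← hk]; exact mul_smul g k w⟩
  have hclosed : ∀ a ∈ D, ∀ b ∈ D, a * b ∈ D ∨ a * b = 1 := fun a ha b hb =>
    closed_of_quot L D hLinv hDtrans hquot (hDc.trans hLc.symm) (by omega) h1D ha hb
  let T : Subgroup W :=
    { carrier := {a | a = 1 ∨ a ∈ D}
      one_mem' := Or.inl rfl
      mul_mem' := by
        rintro a b (rfl | ha) (rfl | hb)
        · exact Or.inl (mul_one 1)
        · right; rwa [one_mul]
        · right; rwa [mul_one]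
        · exact (hclosed a ha b hb).symm
      inv_mem' := by
        rintro a (rfl | ha)
        · exact Or.inl inv_one
        · right
          obtain ⟨x, hx, y, hy, hxy, rfl⟩ := hform a ha
          rw [inv_div]
          exact hquot y hy x hx (Ne.symm hxy) }
  obtain ⟨z, hz⟩ : ∃ z : Multiplicative (F × F), z ≠ 1 := by
    refine ⟨Multiplicative.ofAdd ((1, 0) : F × F), fun h => ?_⟩
    have := congrArg (fun z => (Multiplicative.toAdd z).1) h
    exact one_ne_zero this
  let T' : Subgroup W :=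
    { carrier := {a | a ∈ T ∧ tq F z • a = a}
      one_mem' := ⟨T.one_mem, smul_one _⟩
      mul_mem' := by
        rintro a b ⟨ha, ha'⟩ ⟨hb, hb'⟩
        exact ⟨T.mul_mem ha hb, by rw [smul_mul', ha', hb']⟩
      inv_mem' := by
        rintro a ⟨ha, ha'⟩
        exact ⟨T.inv_mem ha, by rw [smul_inv', ha']⟩ }
  have hdvd : Nat.card T' ∣ Nat.card T := Subgroup.card_dvd_of_le (fun a ha => ha.1)
  have hTc : Nat.card T = n + 1 := by
    have e1 : (T : Set W) = ((insert 1 D : Finset W) : Set W) := by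
      ext a
      rw [Finset.mem_coe, Finset.mem_insert]
      exact Iff.rfl
    change Nat.card (T : Set W) = _
    rw [e1, Nat.card_coe_set_eq, Set.ncard_coe_finset, Finset.card_insert_of_notMem h1D, hDc]
  have hT'c : Nat.card T' = Fintype.card F + 2 := by
    have e1 : (T' : Set W) = ((insert 1 (D.filter fun a => tq F z • a = a) : Finset W) : Set W) := by
      ext a
      rw [Finset.mem_coe, Finset.mem_insert, Finset.mem_filter]
      constructor
      · rintro ⟨h5 | h5, h6⟩
        · exact Or.inl h5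
        · exact Or.inr ⟨h5, h6⟩
      · rintro (rfl | h5)
        · exact T'.one_mem
        · exact ⟨Or.inr h5.1, h5.2⟩
    change Nat.card (T' : Set W) = _
    rw [e1, Nat.card_coe_set_eq, Set.ncard_coe_finset, Finset.card_insert_of_notMem
      (fun h => h1D (Finset.mem_filter.1 h).1)]
    have h5 := card_fixedBy_tq (F := F) (MulAction.orbit (ProjectiveSpecialLinearGroup (Fin 3) F) δ) (by
      rw [← hn, ← hDc, hD, Set.toFinset_card, Nat.card_eq_fintype_card]) hz
    have h6 : (D.filter fun a => tq F z • a = a).card = Nat.card (MulAction.fixedBy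
        (MulAction.orbit (ProjectiveSpecialLinearGroup (Fin 3) F) δ) (tq F z)) := by
      rw [← Fintype.card_coe, ← Nat.card_eq_fintype_card]
      refine Nat.card_congr ⟨fun a => ⟨⟨a, (hDm _).1 (Finset.mem_filter.1 a.2).1⟩,
        Subtype.ext (Finset.mem_filter.1 a.2).2⟩, fun a => ⟨(a.1 : W), Finset.mem_filter.2
          ⟨(hDm _).2 a.1.2, congrArg Subtype.val a.2⟩⟩, fun a => rfl, fun a => rfl⟩
    rw [h6, h5]
  rw [hTc, hT'c, hn] at hdvd
  obtain ⟨t, ht⟩ : ∃ t, Fintype.card F = t + 3 := ⟨Fintype.card F - 3, by omega⟩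
  rw [ht] at hdvd
  have h5 : (t + 3) ^ 2 + (t + 3) + 1 + 1 = (t + 3 + 2) * (t + 2) + 4 := by ring
  rw [h5, Nat.dvd_add_right (Dvd.intro _ rfl)] at hdvd
  have := Nat.le_of_dvd (by norm_num) hdvd
  omega

end Cfsg.Agent.H42.Psl3
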