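import Cfsg.Agent.H42.Psl3.Dual
import Cfsg.Agent.H42.Psl3.Arith
import Cfsg.Agent.H669.SlTwoE
import Cfsg.Agent.S2140
import Cfsg.Agent.Blocks.Knorr

/-!
# `R` is central when `N / R ≅ PSL₃(q)` and the degrees of `G` are degrees of `SL₃(q)` (helper42)
-/

set_option autoImplicit false
set_option linter.style.haveILetI false

namespace Cfsg.Agent.H42.Psl3

open Cfsg Matrix Cfsg.Agent.H691 Cfsg.Agent.H691.T3 Cfsg.Agent.Characters.Core Cfsg.Agent.Characters.Clifford
  Cfsg.Agent.H672 Cfsg.Agent.H669 Cfsg.Agent.H669.SlTwoE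

universe u

variable {H : Type u} [Group H] [Finite H] {F : Type*} [Field F] [Fintype F]

/-- the map onto `PSL₃(q)` -/
def pp (R : Subgroup H) [R.Normal] (e : (H ⧸ R) ≃* ProjectiveSpecialLinearGroup (Fin 3) F) :
    H →* ProjectiveSpecialLinearGroup (Fin 3) F := e.toMonoidHom.comp (QuotientGroup.mk' R)

omit [Finite H] [Fintype F] in
theorem pp_surjective (R : Subgroup H) [R.Normal] (e : (H ⧸ R) ≃* ProjectiveSpecialLinearGroup (Fin 3) F) :
    Function.Surjective (pp R e) := e.surjective.comp (QuotientGroup.mk'_surjective R)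

omit [Finite H] [Fintype F] in
theorem ker_pp (R : Subgroup H) [R.Normal] (e : (H ⧸ R) ≃* ProjectiveSpecialLinearGroup (Fin 3) F) :
    (pp R e).ker = R := by
  ext x
  rw [MonoidHom.mem_ker, pp]
  change e (QuotientGroup.mk x) = 1 ↔ _
  rw [map_eq_one_iff e e.injective, QuotientGroup.eq_one_iff]

/-- **(E1)** an irreducible character of `R` is invariant, or linear with `q² + q + 1` conjugates. -/
theorem inertia_cases (h3 : 3 ≤ Fintype.card F)
    (hD : ∀ η : H → ℂ, IsIrrCharacter H η → ∃ D ∈ DT (Fintype.card F), charDegree η ∣ D ∧ 0 < D) (R : Subgroup H)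
    [R.Normal] (e : (H ⧸ R) ≃* ProjectiveSpecialLinearGroup (Fin 3) F) {θ : R → ℂ}
    (hθ : IsIrrCharacter R θ) : inertia R θ = ⊤ ∨
      (charDegree θ = 1 ∧ (inertia R θ).index = Fintype.card F ^ 2 + Fintype.card F + 1) := by
  classical
  have hfin := psl_finite (F := F)
  letI := Fintype.ofFinite H
  letI := Fintype.ofFinite R
  rw [or_iff_not_imp_left]
  intro hne
  set I := inertia R θ with hI
  have hRI : R ≤ I := le_inertia (isIrr_isClassFunction hθ)
  have hidx : (I.map (pp R e)).index = I.index :=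
    Subgroup.index_map_eq _ (pp_surjective R e) (by rw [ker_pp]; exact hRI)
  have hAne : I.map (pp R e) ≠ ⊤ := by
    intro h
    apply hne
    rw [← Subgroup.index_eq_one, ← hidx, h, Subgroup.index_top]
  have hn : Fintype.card F ^ 2 + Fintype.card F + 1 ≤ I.index := by
    have h1 := (S2140.result (F := F) rfl 3 le_rfl (by omega)).1 _ hAne
    rw [hidx] at h1
    refine le_trans (le_of_eq ?_) h1
    have h2 : Fintype.card F ^ 3 - 1 = (Fintype.card F - 1) * (Fintype.card F ^ 2 + Fintype.card F + 1) := by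
      obtain ⟨t, ht⟩ : ∃ t, Fintype.card F = t + 1 := ⟨Fintype.card F - 1, by omega⟩
      rw [ht, Nat.add_sub_cancel]
      have : (t + 1) ^ 3 = t * ((t + 1) ^ 2 + (t + 1) + 1) + 1 := by ring
      omega
    rw [h2]
    exact (Nat.mul_div_cancel_left _ (by omega)).symm
  -- inside `I`
  letI := Fintype.ofFinite I
  set M : Subgroup I := R.subgroupOf I with hM
  letI := Fintype.ofFinite M
  let ε : M ≃* R := Subgroup.subgroupOfEquivOfLe hRI
  set θ' : M → ℂ := θ ∘ ε with hθ'
  have hθ'i : IsIrrCharacter M θ' := isIrr_comp ε.toMonoidHom ε.surjective hθ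
  have hinv' : ∀ (g : I) (n : M), θ' ⟨g * n * g⁻¹, (inferInstance : M.Normal).conj_mem (n : I) n.2 g⟩ = θ' n := by
    intro g n
    exact (mem_inertia_iff.1 g.2) (ε n)
  haveI := finite_irr (G := I)
  letI := Fintype.ofFinite (IrrCharacter I)
  obtain ⟨m, hm, hmdeg, hmsum⟩ := OverCount.sum_sq_over M hθ'i hinv'
  have hcount := OverCount.card_over_le M hθ'i hinv'
  -- a character with the largest multiplicity
  haveI : Nonempty (IrrCharacter I) := ⟨⟨1, isIrr_one⟩⟩
  obtain ⟨ξ, hξ⟩ := Finite.exists_max m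
  have hbound : M.index ≤ Nat.card (ConjClasses (I ⧸ M)) * m ξ ^ 2 := by
    rw [← hmsum]
    refine le_trans ?_ (Nat.mul_le_mul_right _ hcount)
    rw [Nat.card_eq_fintype_card, Fintype.card_subtype, Finset.card_filter, Finset.sum_mul]
    refine Finset.sum_le_sum fun ζ _ => ?_
    rw [hm ζ]
    by_cases h0 : m ζ = 0
    · rw [h0]; simp
    · have h7 : ((m ζ : ℂ) ≠ 0) := by exact_mod_cast h0
      rw [if_pos h7, one_mul]
      exact Nat.pow_le_pow_left (hξ ζ) 2
  have hmpos : m ξ ≠ 0 := by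
    intro h0
    rw [h0, zero_pow two_ne_zero, mul_zero] at hbound
    have : M.index ≠ 0 := Subgroup.index_ne_zero_of_finite
    omega
  obtain ⟨η, hη, hoη⟩ := exists_over_subtype I ξ.2
  obtain ⟨b, hb⟩ := classInner_isNat (isCharacter_comp (I.subtype.comp M.subtype) (isIrr_isCharacter hη))
    (isIrr_isCharacter hθ'i)
  have hab := mult_mono I.subtype M.subtype (isIrr_isCharacter hη) ξ.2 hoη hθ'i
    (a := m ξ) (b := b) (hm ξ) hb
  have hb' : classInner (fun r : R => η r) θ = b := by
    rw [← hb]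
    exact (classInner_comp_mulEquiv ε (fun r : R => η r) θ).symm
  have hoη' : Over R.subtype η θ := by
    rw [over_subtype_iff, hb']
    have : b ≠ 0 := by omega
    exact_mod_cast this
  have hdeg := CharDeep.CliffordCorr.index_mul_le_degree R hθ I (fun g => mem_inertia_iff)
      (isIrr_isCharacter hη) hb' (coe_charDegree hθ).symm (coe_charDegree hη).symm
  have hdvd := index_mul_charDegree_dvd R hη hθ hoη'
  rw [← hI] at hdvd
  obtain ⟨D, hDD, hηD, hD0⟩ := hD η hη
  -- the orders
  have hkle := classes_sub (F := F) (A := I ⧸ M) (QuotientGroup.lift M ((pp R e).comp I.subtype) (by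
    intro x hx
    rw [MonoidHom.mem_ker]
    change pp R e (x : H) = 1
    rw [← MonoidHom.mem_ker, ker_pp]
    exact hx)) (by
    rw [injective_iff_map_eq_one]
    intro x hx
    obtain ⟨y, rfl⟩ := QuotientGroup.mk_surjective x
    rw [QuotientGroup.lift_mk, MonoidHom.comp_apply, ← MonoidHom.mem_ker, ker_pp] at hx
    rw [QuotientGroup.eq_one_iff]
    exact hx)
  have hord : M.index * I.index = Nat.card (ProjectiveSpecialLinearGroup (Fin 3) F) := by
    rw [← Nat.card_congr e.toEquiv, ← Subgroup.index_eq_card]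
    exact Subgroup.relIndex_mul_index hRI
  have hpsl := card_psl (F := F)
  have hmain : (Fintype.card F ^ 2 - 1) * (Fintype.card F ^ 2 + Fintype.card F + 1) ≤ m ξ ^ 2 * I.index := by
    have e1 : Nat.gcd 3 (Fintype.card F - 1) * (M.index * I.index) ≤
        (Fintype.card F - 1) * Fintype.card F ^ 3 * (m ξ ^ 2 * I.index) := by
      calc Nat.gcd 3 (Fintype.card F - 1) * (M.index * I.index)
          ≤ Nat.gcd 3 (Fintype.card F - 1) * (Nat.card (ConjClasses (I ⧸ M)) * m ξ ^ 2 * I.index) :=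
            Nat.mul_le_mul_left _ (Nat.mul_le_mul_right _ hbound)
        _ = (Nat.gcd 3 (Fintype.card F - 1) * Nat.card (ConjClasses (I ⧸ M))) * (m ξ ^ 2 * I.index) := by ring
        _ ≤ _ := Nat.mul_le_mul_right _ hkle
    rw [hord, hpsl] at e1
    obtain ⟨t, ht⟩ : ∃ t, Fintype.card F = t + 1 := ⟨Fintype.card F - 1, by omega⟩
    have e2 : Fintype.card F ^ 3 - 1 = (Fintype.card F - 1) * (Fintype.card F ^ 2 + Fintype.card F + 1) := by
      rw [ht, Nat.add_sub_cancel]
      have : (t + 1) ^ 3 = t * ((t + 1) ^ 2 + (t + 1) + 1) + 1 := by ring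
      omega
    rw [e2] at e1
    have e3 : Fintype.card F ^ 3 * (Fintype.card F ^ 2 - 1) *
        ((Fintype.card F - 1) * (Fintype.card F ^ 2 + Fintype.card F + 1)) =
        (Fintype.card F - 1) * Fintype.card F ^ 3 * ((Fintype.card F ^ 2 - 1) *
          (Fintype.card F ^ 2 + Fintype.card F + 1)) := by ring
    rw [e3] at e1
    exact Nat.le_of_mul_le_mul_left e1 (Nat.mul_pos (by omega) (by positivity))
  have hi_dvd : I.index ∣ D := (Dvd.intro _ rfl : I.index ∣ I.index * charDegree θ).trans (hdvd.trans hηD)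
  have hle : I.index * (m ξ * charDegree θ) ≤ D := by
    refine le_trans ?_ (hdeg.trans (Nat.le_of_dvd hD0 hηD))
    exact Nat.mul_le_mul_left _ (Nat.mul_le_mul_right _ hab)
  obtain ⟨ht1, hcase⟩ := arith_orbit h3 hDD hD0 hn hi_dvd hle (charDegree_pos hθ) hmain
  refine ⟨ht1, ?_⟩
  rcases hcase with hc | ⟨hq7, hc⟩
  · exact hc
  · exfalso
    -- a subgroup of index `76` of `PSL₃(7)`
    rw [← hidx] at hc
    letI := Fintype.ofFinite (ProjectiveSpecialLinearGroup (Fin 3) F)
    letI := Fintype.ofFinite (ProjectiveSpecialLinearGroup (Fin 3) F ⧸ I.map (pp R e))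
    rw [Subgroup.index_eq_card] at hc
    obtain ⟨-, χ, hχ, hχ1⟩ := two_trans (S := ProjectiveSpecialLinearGroup (Fin 3) F)
      (Ω := ProjectiveSpecialLinearGroup (Fin 3) F ⧸ I.map (pp R e)) (k := 48) (by rw [hc]; omega) (by rw [hc]; omega)
      (fun χ hχ h1 => by
        have := psl_min_degree hχ h1
        rw [hq7] at this
        omega)
    rw [hc] at hχ1
    have h75 : charDegree χ = 75 := by omega
    have h5 := Blocks.Knorr.charDegree_dvd hχ
    rw [h75] at h5
    rw [hq7] at hpsl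
    have h6 : 75 ∣ 7 ^ 3 * (7 ^ 2 - 1) * (7 ^ 3 - 1) := by
      rw [← hpsl]
      exact h5.mul_left _
    revert h6
    decide

/-- **(E2)** all irreducible characters of `R` are linear. -/
theorem charDegree_eq_one (h3 : 3 ≤ Fintype.card F)
    (hD : ∀ η : H → ℂ, IsIrrCharacter H η → ∃ D ∈ DT (Fintype.card F), charDegree η ∣ D ∧ 0 < D) (R : Subgroup H)
    [hR : R.Normal] (e : (H ⧸ R) ≃* ProjectiveSpecialLinearGroup (Fin 3) F) {θ : R → ℂ}
    (hθ : IsIrrCharacter R θ) : charDegree θ = 1 := by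
  classical
  letI := Fintype.ofFinite H
  letI := Fintype.ofFinite R
  rcases inertia_cases h3 hD R e hθ with htop | h
  swap
  · exact h.1
  have hinv : ∀ (g : H) (n : R), θ ⟨g * n * g⁻¹, hR.conj_mem (n : H) n.2 g⟩ = θ n := fun g n => by
    have : g ∈ inertia R θ := by rw [htop]; trivial
    exact mem_inertia_iff.1 this n
  by_contra hne
  have hpos := charDegree_pos hθ
  haveI := finite_irr (G := H)
  letI := Fintype.ofFinite (IrrCharacter H)
  obtain ⟨m, hm, hmdeg, hmsum⟩ := OverCount.sum_sq_over R hθ hinv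
  have hcount := OverCount.card_over_le R hθ hinv
  have hk : Nat.card (ConjClasses (H ⧸ R)) =
      Nat.card (ConjClasses (ProjectiveSpecialLinearGroup (Fin 3) F)) :=
    H92.KTools.card_classes_congr e
  have hidx : R.index = Nat.card (ProjectiveSpecialLinearGroup (Fin 3) F) := by
    rw [Subgroup.index_eq_card]
    exact Nat.card_congr e.toEquiv
  -- the largest degree
  set M := if Fintype.card F ≤ 4 then Fintype.card F * (Fintype.card F ^ 2 + Fintype.card F + 1)
    else (Fintype.card F + 1) * (Fintype.card F ^ 2 + Fintype.card F + 1) with hMdef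
  have hM : M ≤ (Fintype.card F + 1) * (Fintype.card F ^ 2 + Fintype.card F + 1) ∧
      (Fintype.card F ≤ 4 → M ≤ Fintype.card F * (Fintype.card F ^ 2 + Fintype.card F + 1)) := by
    have h5 : Fintype.card F * (Fintype.card F ^ 2 + Fintype.card F + 1) ≤
        (Fintype.card F + 1) * (Fintype.card F ^ 2 + Fintype.card F + 1) := Nat.mul_le_mul_right _ (by omega)
    rw [hMdef]
    split_ifs with h4
    · exact ⟨h5, fun _ => le_rfl⟩
    · exact ⟨le_rfl, fun h => absurd h h4⟩
  have hdegM : ∀ η : IrrCharacter H, charDegree (η : H → ℂ) ≤ M := by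
    intro η
    obtain ⟨D, hDD, hηD, hD0⟩ := hD η η.2
    refine (Nat.le_of_dvd hD0 hηD).trans ?_
    have h4 := dt_le h3 hDD
    rw [hMdef]
    split_ifs with h5
    · exact h4.2 h5
    · exact h4.1
  have h1 : 4 * R.index ≤ Nat.card (ConjClasses (H ⧸ R)) * M ^ 2 := by
    rw [← hmsum, Finset.mul_sum]
    refine le_trans ?_ (Nat.mul_le_mul_right _ hcount)
    rw [Nat.card_eq_fintype_card, Fintype.card_subtype, Finset.card_filter, Finset.sum_mul]
    refine Finset.sum_le_sum fun ξ _ => ?_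
    rw [hm ξ]
    by_cases h0 : m ξ = 0
    · rw [h0]; simp
    · have h2 := hmdeg ξ h0
      have h3 := hdegM ξ
      have h4 : m ξ * 2 ≤ m ξ * charDegree θ := Nat.mul_le_mul_left _ (by omega)
      have h6 : 2 * m ξ ≤ M := by omega
      have h7 : ((m ξ : ℂ) ≠ 0) := by exact_mod_cast h0
      rw [if_pos h7, one_mul]
      have h8 : (2 * m ξ) ^ 2 ≤ M ^ 2 := Nat.pow_le_pow_left h6 2
      calc 4 * m ξ ^ 2 = (2 * m ξ) ^ 2 := by ring
        _ ≤ _ := h8
  rw [hk, hidx] at h1
  have hcl := classes_le (F := F)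
  exact arith_inv h3 rfl (card_psl (F := F)) hcl.1 hcl.2 hM h1

/-- `H` acts on the linear characters of `R` -/
def act (R : Subgroup H) [R.Normal] : H →* MulAut (R →* ℂˣ) where
  toFun h :=
    { toFun := fun l => l.comp (MulAut.conjNormal h⁻¹ : MulAut R).toMonoidHom
      invFun := fun l => l.comp (MulAut.conjNormal h : MulAut R).toMonoidHom
      left_inv := fun l => by
        ext r
        simp
      right_inv := fun l => by
        ext r
        simp
      map_mul' := fun l k => rfl }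
  map_one' := by
    ext l r
    simp
  map_mul' g h := by
    ext l r
    simp

omit [Finite H] in
theorem act_apply (R : Subgroup H) [hR : R.Normal] (h : H) (l : R →* ℂˣ) (r : R) :
    act R h l r = l ⟨h⁻¹ * r * h, by
      have := hR.conj_mem r r.2 h⁻¹
      rwa [inv_inv] at this⟩ := by
  change l (MulAut.conjNormal h⁻¹ r) = _
  congr 1
  apply Subtype.ext
  change h⁻¹ * (r : H) * h⁻¹⁻¹ = h⁻¹ * r * h
  rw [inv_inv]

theorem trivial_of_hom (hq : 3 ≤ Fintype.card F) {W : Type*} [CommGroup W] [Finite W]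
    (ρ : ProjectiveSpecialLinearGroup (Fin 3) F →* MulAut W)
    (horb : ∀ w : W, ∃ K : Subgroup (ProjectiveSpecialLinearGroup (Fin 3) F), (∀ s, s ∈ K ↔ ρ s w = w) ∧
      (K.index = 1 ∨ K.index = Fintype.card F ^ 2 + Fintype.card F + 1))
    (s : ProjectiveSpecialLinearGroup (Fin 3) F) (w : W) : ρ s w = w := by
  letI : MulDistribMulAction (ProjectiveSpecialLinearGroup (Fin 3) F) W := MulDistribMulAction.compHom W ρ
  refine trivial_of_orbits hq (fun w => ?_) s w
  obtain ⟨K, hK, hK'⟩ := horb w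
  have h1 : MulAction.stabilizer (ProjectiveSpecialLinearGroup (Fin 3) F) w = K := by
    ext s
    rw [MulAction.mem_stabilizer_iff, hK]
    exact Iff.rfl
  have h2 : Nat.card (MulAction.orbit (ProjectiveSpecialLinearGroup (Fin 3) F) w) = K.index := by
    rw [← h1, Subgroup.index_eq_card]
    exact Nat.card_congr (MulAction.orbitEquivQuotientStabilizer _ w)
  rw [h2]
  exact hK'

/-- **all linear characters of `R` are invariant** -/
theorem inertia_eq_top' (h3 : 3 ≤ Fintype.card F)
    (hD : ∀ η : H → ℂ, IsIrrCharacter H η → ∃ D ∈ DT (Fintype.card F), charDegree η ∣ D ∧ 0 < D) (R : Subgroup H)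
    [hR : R.Normal] (e : (H ⧸ R) ≃* ProjectiveSpecialLinearGroup (Fin 3) F) (l : R →* ℂˣ) (h : H) :
    act R h l = l := by
  classical
  letI := Fintype.ofFinite R
  have hker : R ≤ (act R).ker := by
    intro r hr
    rw [MonoidHom.mem_ker]
    ext l s
    rw [act_apply, MulAut.one_apply]
    have : (⟨r⁻¹ * s * r, by
      have := hR.conj_mem s s.2 r⁻¹
      rwa [inv_inv] at this⟩ : R) = (⟨r, hr⟩ : R)⁻¹ * s * ⟨r, hr⟩ := rfl
    rw [this, map_mul, map_mul, map_inv, mul_comm, mul_inv_cancel_left]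
  let ρ : ProjectiveSpecialLinearGroup (Fin 3) F →* MulAut (R →* ℂˣ) :=
    (QuotientGroup.lift R (act R) hker).comp e.symm.toMonoidHom
  have hρ : ∀ h : H, ρ (pp R e h) = act R h := by
    intro h
    change QuotientGroup.lift R (act R) hker (e.symm (e (QuotientGroup.mk h))) = _
    rw [MulEquiv.symm_apply_apply]
    rfl
  haveI : Finite (R →* ℂˣ) := by
    apply Nat.finite_of_card_ne_zero
    rw [Characters.Linear.card_hom_eq_index_commutator]
    exact Subgroup.index_ne_zero_of_finite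
  rw [← hρ]
  refine trivial_of_hom (W := R →* ℂˣ) h3 ρ ?_ _ _
  intro l
  have hθ : IsIrrCharacter R (fun r => (l r : ℂ)) := Characters.Linear.isIrrCharacter_hom l
  have hst : ∀ h : H, h ∈ inertia R (fun r => (l r : ℂ)) ↔ act R h l = l := by
    intro h
    rw [mem_inertia_iff]
    constructor
    · intro h1
      ext r
      rw [act_apply]
      have h2 := h1 ⟨h⁻¹ * r * h, by
        have := hR.conj_mem r r.2 h⁻¹
        rwa [inv_inv] at this⟩
      rw [← h2]
      have h3 : (⟨h * (h⁻¹ * r * h) * h⁻¹, hR.conj_mem _ (by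
        have := hR.conj_mem r r.2 h⁻¹
        rwa [inv_inv] at this) h⟩ : R) = r := Subtype.ext (by group)
      exact congrArg (fun x => ((l x : ℂˣ) : ℂ)) h3
    · intro h1 n
      have h2 : act R h l ⟨h * n * h⁻¹, hR.conj_mem (n : H) n.2 h⟩ = l ⟨h * n * h⁻¹, hR.conj_mem (n : H) n.2 h⟩ := by
        rw [h1]
      rw [act_apply] at h2
      rw [← h2]
      have h3 : (⟨h⁻¹ * (h * n * h⁻¹) * h, by
        have := hR.conj_mem _ (hR.conj_mem (n : H) n.2 h) h⁻¹
        rwa [inv_inv] at this⟩ : R) = n := Subtype.ext (by group)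
      rw [h3]
  refine ⟨(inertia R (fun r => (l r : ℂ))).map (pp R e), ?_, ?_⟩
  · intro s
    constructor
    · rintro ⟨h, hh, rfl⟩
      rw [hρ]
      exact (hst h).1 hh
    · intro hs
      obtain ⟨h, rfl⟩ := pp_surjective R e s
      rw [hρ] at hs
      exact ⟨h, (hst h).2 hs, rfl⟩
  · rw [Subgroup.index_map_eq _ (pp_surjective R e) (by
      rw [ker_pp]; exact le_inertia (isIrr_isClassFunction hθ))]
    rcases inertia_cases h3 hD R e hθ with h1 | h1
    · left
      rw [h1, Subgroup.index_top]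
    · right
      exact h1.2

/-- **`R` is central.** -/
theorem central_abs3 (h3 : 3 ≤ Fintype.card F)
    (hD : ∀ η : H → ℂ, IsIrrCharacter H η → ∃ D ∈ DT (Fintype.card F), charDegree η ∣ D ∧ 0 < D) (R : Subgroup H)
    [hR : R.Normal] (e : (H ⧸ R) ≃* ProjectiveSpecialLinearGroup (Fin 3) F) :
    R ≤ Subgroup.center H := by
  classical
  letI := Fintype.ofFinite R
  intro r hr
  rw [Subgroup.mem_center_iff]
  intro h
  have h1 : h * r * h⁻¹ ∈ R := hR.conj_mem r hr h
  have key : (⟨h * r * h⁻¹, h1⟩ * (⟨r, hr⟩ : R)⁻¹ : R) = 1 := by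
    apply eq_one_of_forall
    intro θ hθ
    have hd := charDegree_eq_one h3 hD R e hθ
    have hθ1 : θ 1 = 1 := by rw [← coe_charDegree hθ, hd, Nat.cast_one]
    obtain ⟨f, hf⟩ := Characters.Linear.exists_hom_of_isIrrCharacter hθ hθ1
    have h5 := inertia_eq_top' h3 hD R e f h⁻¹
    have h2 : f ⟨h * r * h⁻¹, h1⟩ = f ⟨r, hr⟩ := by
      have h6 : act R h⁻¹ f ⟨r, hr⟩ = f ⟨r, hr⟩ := by rw [h5]
      rw [act_apply] at h6
      rw [← h6]
      congr 1
      apply Subtype.ext
      simp
    have h7 : ∀ x, θ x = (f x : ℂ) := fun x => congrFun hf x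
    rw [hθ1, h7, map_mul, map_inv, h2, mul_inv_cancel, Units.val_one]
  have h2 := congrArg Subtype.val key
  have h3 : h * r * h⁻¹ * r⁻¹ = 1 := h2
  rw [mul_inv_eq_one, mul_inv_eq_iff_eq_mul] at h3
  exact h3

set_option linter.unusedVariables false in
/-- **Step C of S4855.** -/
theorem central_of_psl3 {G : Type*} [Group G] [Finite G] {F : Type*} [Field F] [Fintype F]
    (h3 : 3 ≤ Fintype.card F) (hD : charDegrees G ⊆ DT (Fintype.card F)) (N R : Subgroup G)
    [N.Normal] [R.Normal] (hRN : R ≤ N) (hN : ⁅N, N⁆ = N)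
    (e : (N ⧸ R.subgroupOf N) ≃* ProjectiveSpecialLinearGroup (Fin 3) F) :
    R ≤ Subgroup.centralizer (N : Set G) := by
  classical
  have hDN : ∀ η : N → ℂ, IsIrrCharacter N η → ∃ D ∈ DT (Fintype.card F), charDegree η ∣ D ∧ 0 < D := by
    intro η hη
    obtain ⟨χ, hχ, ho⟩ := exists_over_subtype N hη
    have h1 := (charDegree_dvd_of_over N hχ hη ho).1
    have h2 : charDegree χ ∈ DT (Fintype.card F) := hD ⟨⟨χ, hχ⟩, rfl⟩
    exact ⟨_, h2, h1, charDegree_pos hχ⟩
  have h1 := central_abs3 h3 hDN (R.subgroupOf N) e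
  intro r hr
  rw [Subgroup.mem_centralizer_iff]
  intro n hn
  have h2 : (⟨r, hRN hr⟩ : N) ∈ R.subgroupOf N := Subgroup.mem_subgroupOf.2 hr
  have h3 := Subgroup.mem_center_iff.1 (h1 h2) ⟨n, hn⟩
  exact congrArg Subtype.val h3

end Cfsg.Agent.H42.Psl3
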