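import Cfsg.Agent.H42.Psl3.Cent
import Cfsg.Agent.S0280
import Cfsg.Agent.S0243
import Cfsg.Agent.S0249
import Cfsg.Agent.S2480

/-!
# Orders, centralisers and class numbers for `PSL₃(q)` (helper42)
-/

set_option autoImplicit false
set_option linter.style.haveILetI false

namespace Cfsg.Agent.H42.Psl3

open Matrix

variable {F : Type*} [Field F]

theorem psl_finite [Finite F] : Finite (ProjectiveSpecialLinearGroup (Fin 3) F) := by
  unfold Matrix.ProjectiveSpecialLinearGroup
  infer_instance

/-- the projection -/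
def pr (F : Type*) [Field F] : SpecialLinearGroup (Fin 3) F →* ProjectiveSpecialLinearGroup (Fin 3) F :=
  QuotientGroup.mk' _

theorem pr_surjective : Function.Surjective (pr F) := QuotientGroup.mk'_surjective _

theorem ker_pr : (pr F).ker = Subgroup.center (SpecialLinearGroup (Fin 3) F) := QuotientGroup.ker_mk' _

/-- elements of the centre are scalar -/
theorem pr_eq_iff {g h : SpecialLinearGroup (Fin 3) F} (hgh : pr F g = pr F h) :
    ∃ w : F, (g : Matrix (Fin 3) (Fin 3) F) = w • (h : Matrix (Fin 3) (Fin 3) F) := by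
  have h1 : g * h⁻¹ ∈ (pr F).ker := by rw [MonoidHom.mem_ker, map_mul, map_inv, hgh, mul_inv_cancel]
  rw [ker_pr, Matrix.SpecialLinearGroup.mem_center_iff] at h1
  obtain ⟨r, _, hr⟩ := h1
  refine ⟨r, ?_⟩
  have h2 : g = (g * h⁻¹) * h := by group
  have h3 : (g : Matrix (Fin 3) (Fin 3) F) = ((g * h⁻¹ : SpecialLinearGroup (Fin 3) F) : Matrix (Fin 3) (Fin 3) F) *
      (h : Matrix (Fin 3) (Fin 3) F) := by
    rw [← Matrix.SpecialLinearGroup.coe_mul, ← h2]
  rw [h3, ← hr]
  ext i j
  simp [Matrix.scalar_apply, Matrix.diagonal_mul]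

theorem pr_ne_one {g : SpecialLinearGroup (Fin 3) F} (hg : pr F g ≠ 1) :
    ¬ ∃ c : F, (g : Matrix (Fin 3) (Fin 3) F) = c • (1 : Matrix (Fin 3) (Fin 3) F) := by
  rintro ⟨c, hc⟩
  apply hg
  have : g ∈ (pr F).ker := by
    rw [ker_pr, Matrix.SpecialLinearGroup.mem_center_iff]
    refine ⟨c, ?_, ?_⟩
    · have := g.2
      rw [hc, Matrix.det_smul, Matrix.det_one, mul_one] at this
      exact this
    · rw [hc]
      ext i j
      simp [Matrix.scalar_apply, Matrix.diagonal_apply, Matrix.one_apply]
  exact this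

variable [Fintype F]

/-- **Centralisers in `PSL₃(q)`.** -/
theorem card_centralizer_le {x : ProjectiveSpecialLinearGroup (Fin 3) F} (hx : x ≠ 1) :
    Nat.gcd 3 (Fintype.card F - 1) * Nat.card (Subgroup.centralizer ({x} : Set (ProjectiveSpecialLinearGroup (Fin 3) F))) ≤
      (Fintype.card F - 1) * Fintype.card F ^ 3 := by
  classical
  have := psl_finite (F := F)
  obtain ⟨g, rfl⟩ := pr_surjective x
  have hg := pr_ne_one hx
  have hdet : (g : Matrix (Fin 3) (Fin 3) F).det ≠ 0 := by rw [g.2]; exact one_ne_zero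
  refine le_trans ?_ (card_cn_le hdet hg)
  set C := Subgroup.centralizer ({pr F g} : Set (ProjectiveSpecialLinearGroup (Fin 3) F)) with hC
  have h1 : Nat.gcd 3 (Fintype.card F - 1) * Nat.card C = Nat.card (C.comap (pr F)) := by
    have e1 := (C.comap (pr F)).card_mul_index
    have e2 := C.card_mul_index
    rw [Subgroup.index_comap_of_surjective _ pr_surjective] at e1
    have e3 := (pr F).ker.card_mul_index
    rw [Subgroup.index_ker, MonoidHom.range_eq_top.2 pr_surjective, Subgroup.card_top, ker_pr,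
      S0280.card_center_SL (by norm_num : 1 ≤ 3)] at e3
    rw [← e3, ← e2, ← mul_assoc] at e1
    exact (Nat.eq_of_mul_eq_mul_right (Nat.pos_of_ne_zero Subgroup.index_ne_zero_of_finite) e1).symm
  rw [h1]
  have hf : Finite (Matrix (Fin 3) (Fin 3) F) := inferInstance
  let f : C.comap (pr F) → Cn (g : Matrix (Fin 3) (Fin 3) F) := fun y => ⟨((y : SpecialLinearGroup (Fin 3) F) : Matrix (Fin 3) (Fin 3) F), by
    refine ⟨(y : SpecialLinearGroup (Fin 3) F).2, ?_⟩
    have h2 : pr F (y : SpecialLinearGroup (Fin 3) F) * pr F g = pr F g * pr F (y : SpecialLinearGroup (Fin 3) F) :=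
      Subgroup.mem_centralizer_singleton_iff.1 y.2
    rw [← map_mul, ← map_mul] at h2
    obtain ⟨w, hw⟩ := pr_eq_iff h2
    exact ⟨w, by simpa only [Matrix.SpecialLinearGroup.coe_mul] using hw⟩⟩
  refine Nat.card_le_card_of_injective f ?_
  intro y y' h
  have h3 := congrArg Subtype.val h
  exact Subtype.ext (Subtype.ext h3)

/-- the order of `PSL₃(q)` -/
theorem card_psl :
    Nat.gcd 3 (Fintype.card F - 1) * Nat.card (ProjectiveSpecialLinearGroup (Fin 3) F) =
      Fintype.card F ^ 3 * (Fintype.card F ^ 2 - 1) * (Fintype.card F ^ 3 - 1) := by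
  have h := S0243.result (F := F) rfl 3 (by norm_num)
  rw [Fin.prod_univ_three] at h
  have h2 : 2 ≤ Fintype.card F := Fintype.one_lt_card
  generalize Nat.card (ProjectiveSpecialLinearGroup (Fin 3) F) = N at *
  generalize Nat.gcd 3 (Fintype.card F - 1) = d at *
  generalize Fintype.card F = q at *
  obtain ⟨t, rfl⟩ : ∃ t, q = t + 1 := ⟨q - 1, by omega⟩
  have e1 : (t + 1) ^ 3 - 1 = t * (t ^ 2 + 3 * t + 3) := by
    have : (t + 1) ^ 3 = t * (t ^ 2 + 3 * t + 3) + 1 := by ring
    omega
  have e2 : (t + 1) ^ 3 - (t + 1) = (t + 1) * (t * (t + 2)) := by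
    have : (t + 1) ^ 3 = (t + 1) * (t * (t + 2)) + (t + 1) := by ring
    omega
  have e3 : (t + 1) ^ 3 - (t + 1) ^ 2 = (t + 1) ^ 2 * t := by
    have : (t + 1) ^ 3 = (t + 1) ^ 2 * t + (t + 1) ^ 2 := by ring
    omega
  have e4 : (t + 1) ^ 2 - 1 = t * (t + 2) := by
    have : (t + 1) ^ 2 = t * (t + 2) + 1 := by ring
    omega
  have h' : d * (t * N) = t * (t ^ 2 + 3 * t + 3) * ((t + 1) * (t * (t + 2))) * ((t + 1) ^ 2 * t) := by
    simpa [e1, e2, e3] using h
  rw [e4, e1]
  have ht : 0 < t := by omega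
  apply Nat.eq_of_mul_eq_mul_left ht
  calc t * (d * N) = d * (t * N) := by ring
    _ = _ := h'
    _ = _ := by ring

/-- **Class numbers of groups embedded into `PSL₃(q)`.** -/
theorem classes_sub {A : Type*} [Group A] [Finite A] (f : A →* ProjectiveSpecialLinearGroup (Fin 3) F)
    (hf : Function.Injective f) :
    Nat.gcd 3 (Fintype.card F - 1) * Nat.card (ConjClasses A) ≤ (Fintype.card F - 1) * Fintype.card F ^ 3 := by
  classical
  have := psl_finite (F := F)
  letI := Fintype.ofFinite A
  set d := Nat.gcd 3 (Fintype.card F - 1) with hd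
  set C := (Fintype.card F - 1) * Fintype.card F ^ 3 with hC
  have hdC : d ∣ C := (Nat.gcd_dvd_right _ _).mul_right _
  have h2 : 2 ≤ Fintype.card F := Fintype.one_lt_card
  have hCpos : 0 < C := Nat.mul_pos (by omega) (by positivity)
  obtain ⟨c, hc⟩ := hdC
  have hdpos : 0 < d := Nat.gcd_pos_of_pos_left _ (by norm_num)
  have hcen : ∀ a : A, a ≠ 1 → Nat.card (Subgroup.centralizer ({a} : Set A)) ≤ c := by
    intro a ha
    have h3 := card_centralizer_le (x := f a) (fun h => ha ((map_eq_one_iff f hf).1 h))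
    have h4 : Nat.card (Subgroup.centralizer ({a} : Set A)) ≤
        Nat.card (Subgroup.centralizer ({f a} : Set (ProjectiveSpecialLinearGroup (Fin 3) F))) := by
      refine Nat.card_le_card_of_injective (fun y => ⟨f y, ?_⟩) ?_
      · rw [Subgroup.mem_centralizer_singleton_iff]
        have := Subgroup.mem_centralizer_singleton_iff.1 y.2
        rw [← map_mul, this, map_mul]
      · intro y y' h
        exact Subtype.ext (hf (congrArg Subtype.val h))
    have h5 : d * Nat.card (Subgroup.centralizer ({a} : Set A)) ≤ d * c :=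
      (Nat.mul_le_mul_left _ h4).trans (h3.trans (le_of_eq hc))
    exact Nat.le_of_mul_le_mul_left h5 hdpos
  have hsum : Nat.card (ConjClasses A) * Nat.card A = ∑ a : A, Nat.card (Subgroup.centralizer ({a} : Set A)) := by
    rw [← card_comm_eq_card_conjClasses_mul_card]
    rw [Nat.card_congr (Equiv.subtypeProdEquivSigmaSubtype (fun a b : A => Commute a b)), Nat.card_sigma]
    refine Finset.sum_congr rfl fun a _ => ?_
    refine Nat.card_congr (Equiv.subtypeEquivRight fun b => ?_)
    rw [Subgroup.mem_centralizer_singleton_iff]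
    exact ⟨fun h => h.symm, fun h => h.symm⟩
  have hle : Nat.card (ConjClasses A) * Nat.card A + c ≤ Nat.card A + Nat.card A * c := by
    rw [hsum, ← Finset.add_sum_erase _ _ (Finset.mem_univ (1 : A))]
    have h6 : Nat.card (Subgroup.centralizer ({1} : Set A)) ≤ Nat.card A := Subgroup.card_le_card_group _
    have h7 : ∑ a ∈ Finset.univ.erase (1 : A), Nat.card (Subgroup.centralizer ({a} : Set A)) ≤ (Nat.card A - 1) * c := by
      refine (Finset.sum_le_card_nsmul _ _ c fun a ha => hcen a (Finset.ne_of_mem_erase ha)).trans ?_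
      rw [smul_eq_mul, Finset.card_erase_of_mem (Finset.mem_univ _), Finset.card_univ, Nat.card_eq_fintype_card]
    have h8 : 1 ≤ Nat.card A := Nat.card_pos
    have h9 : (Nat.card A - 1) * c + c = Nat.card A * c := by
      rw [← Nat.succ_mul]
      congr 1
      omega
    omega
  have hk : Nat.card (ConjClasses A) ≤ c := by
    by_contra hcon
    have h10 : (c + 1) * Nat.card A ≤ Nat.card (ConjClasses A) * Nat.card A := Nat.mul_le_mul_right _ (by omega)
    have h11 : 0 < c := by
      rw [Nat.pos_iff_ne_zero]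
      rintro rfl
      omega
    have h12 : (c + 1) * Nat.card A = Nat.card A * c + Nat.card A := by ring
    omega
  rw [hc]
  exact Nat.mul_le_mul_left _ hk

open Cfsg.Agent.H151.GLC Cfsg.Agent.H151.Cnt Cfsg.Agent.H151.SLC Cfsg.Agent.H151.SLB Cfsg.Agent.H151.PSLB in
/-- the class number of `PSL₃(q)` -/
theorem classes_le :
    Nat.gcd 3 (Fintype.card F - 1) * Nat.card (ConjClasses (ProjectiveSpecialLinearGroup (Fin 3) F)) ≤
      Fintype.card F ^ 2 + Fintype.card F + 10 ∧
    (Nat.gcd 3 (Fintype.card F - 1) = 1 → Nat.card (ConjClasses (ProjectiveSpecialLinearGroup (Fin 3) F)) ≤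
      Fintype.card F ^ 2 + Fintype.card F) := by
  classical
  have hq : 2 ≤ Fintype.card F := Fintype.one_lt_card
  have hmul := card_psl_mul_le (F := F) (n := 3) (by omega)
  have hs := total_prime_le (F := F) Nat.prime_three
  rw [K_three_three _ (by omega)] at hs
  have h := hmul.trans hs
  have ha := one_le_card_aa (F := F) 3
  have ha2 := card_aa_le (F := F) (m := 3) (by norm_num)
  have key : ∀ k a : ℕ, 1 ≤ a → a ≤ 3 → k * (Fintype.card F - 1) ≤ (Fintype.card F - 1) * (Fintype.card F * (Fintype.card F + 1)) +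
      ((a ^ 2 - 1) + (a - 1)) * (Fintype.card F - 1) → k ≤ Fintype.card F ^ 2 + Fintype.card F + ((a ^ 2 - 1) + (a - 1)) := by
    intro k a ha1 ha3 hk
    have e : (Fintype.card F - 1) * (Fintype.card F * (Fintype.card F + 1)) +
      ((a ^ 2 - 1) + (a - 1)) * (Fintype.card F - 1) =
        (Fintype.card F ^ 2 + Fintype.card F + ((a ^ 2 - 1) + (a - 1))) * (Fintype.card F - 1) := by ring
    rw [e] at hk
    exact Nat.le_of_mul_le_mul_right hk (by omega)
  have h1 := key _ _ ha ha2 h
  constructor
  · refine h1.trans ?_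
    have : (aa F 3).card = 1 ∨ (aa F 3).card = 2 ∨ (aa F 3).card = 3 := by omega
    rcases this with h | h | h <;> rw [h] <;> omega
  · intro hg
    have haa : (aa F 3).card = 1 := by
      rw [Finset.card_eq_one]
      refine ⟨1, ?_⟩
      ext u
      rw [Finset.mem_singleton]
      constructor
      · intro hu
        have h3 := orderOf_dvd_of_mem_aa hu
        have h4 : orderOf u ∣ Fintype.card F - 1 := by
          rw [← Fintype.card_units]
          exact orderOf_dvd_card
        have h5 := Nat.dvd_gcd h3 h4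
        rw [hg, Nat.dvd_one, orderOf_eq_one_iff] at h5
        exact h5
      · rintro rfl
        exact one_mem_aa 3
    rw [hg, one_mul, haa] at h1
    exact h1

end Cfsg.Agent.H42.Psl3
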